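import Cfsg.Agent.H93.RC.Defs

/-!
# S3510, row F, box P: a family without `p`-elements having a common totally singular plane
-/

set_option autoImplicit false
open Cfsg

namespace Cfsg.Agent.H138.RC

open QuadraticMap MulAction
open Cfsg.Agent.LieClassical.OrthCore Cfsg.Agent.LieClassical.OrthTrans
open Cfsg.Agent.LieClassical.OrthSimple Cfsg.Agent.ClassicalGeometry.OrthSemi
open Cfsg.Agent.ClassicalGeometry.OrthAut1 Cfsg.Agent.H106.RC Cfsg.Agent.H93.RC

/-- a basis of a plane -/
theorem exists_span_pair {F V : Type*} [Field F] [AddCommGroup V] [Module F V]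
    (L : Submodule F V) (hL2 : Module.finrank F L = 2) :
    ∃ u w : V, u ≠ 0 ∧ (∀ a : F, w ≠ a • u) ∧ Submodule.span F {u, w} = L := by
  have hfin : FiniteDimensional F L := Module.finite_of_finrank_pos (by omega)
  let b := Module.finBasisOfFinrankEq F L hL2
  refine ⟨b 0, b 1, ?_, ?_, ?_⟩
  · intro h0
    exact b.ne_zero 0 (Subtype.ext h0)
  · intro a ha
    have h1 : b 1 = a • b 0 := Subtype.ext ha
    have h2 := congrArg (fun v => b.repr v 1) h1
    simp only [b.repr_self, map_smul, Finsupp.smul_apply, smul_eq_mul, Finsupp.single_eq_same] at h2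
    rw [Finsupp.single_eq_of_ne (by decide), mul_zero] at h2
    exact one_ne_zero h2
  · have h1 := congrArg (Submodule.map L.subtype) b.span_eq
    rw [Submodule.map_span, Submodule.map_top, Submodule.range_subtype] at h1
    refine Eq.trans ?_ h1
    congr 1
    ext v
    constructor
    · rintro (rfl | rfl)
      · exact ⟨b 0, ⟨0, rfl⟩, rfl⟩
      · exact ⟨b 1, ⟨1, rfl⟩, rfl⟩
    · rintro ⟨_, ⟨i, rfl⟩, rfl⟩
      fin_cases i
      · exact Or.inl rfl
      · exact Or.inr rfl

/-- **BOX P** from box F1 (the hypothesis `hLR`). -/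
theorem box_P_of {F V G Ω : Type*} [Field F] [AddCommGroup V] [Module F V] {Q : QuadraticForm F V}
    [Group G] [MulAction G Ω] {ρ : ↥(E Q) →* G} {ι : Type*} {y : ι → G} {M : ι → Gam Q}
    (hLR : ∀ {u w : V} (hu : Q u = 0) (_ : Q w = 0) (huw : polar Q u w = 0),
      u ≠ 0 → (∀ a : F, w ≠ a • u) →
      (∀ i, ∀ v ∈ Submodule.span F {u, w}, (M i).1 v ∈ Submodule.span F {u, w}) →
      (∀ ω : Ω, ρ (AutOrth.SemiSim.sg Q u w hu huw) • ω = ω ∨ ∃ i, y i • ω = ω) → False)
    (hcov : Cov Ω y) (L : Submodule F V)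
    (hL : ∀ v ∈ L, Q v = 0) (hL2 : Module.finrank F L = 2) (hi : ∀ i, ∀ v ∈ L, (M i).1 v ∈ L) :
    False := by
  obtain ⟨u, w, hu0, hind, hsp⟩ := exists_span_pair L hL2
  have hu : u ∈ L := by rw [← hsp]; exact Submodule.subset_span (Or.inl rfl)
  have hw : w ∈ L := by rw [← hsp]; exact Submodule.subset_span (Or.inr rfl)
  refine hLR (hL u hu) (hL w hw) ?_ hu0 hind (by rw [hsp]; exact hi) (fun ω => Or.inr (hcov ω))
  rw [polar, hL u hu, hL w hw, hL _ (L.add_mem hu hw)]
  simp

end Cfsg.Agent.H138.RC
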