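import Cfsg.Agent.H138.RC.Piece
import Cfsg.Agent.H93.RC.Defs

/-!
# S3510, row F, box E7: two lemmas over `F_2`
-/

set_option autoImplicit false
set_option linter.unusedSectionVars false

namespace Cfsg.Agent.H138.RC

open Cfsg QuadraticMap Module
open Cfsg.Agent.LieClassical.OrthCore Cfsg.Agent.LieClassical.OrthTrans Cfsg.Agent.H205.RC

variable {F V : Type*} [Field F] [AddCommGroup V] [Module F V] {Q : QuadraticForm F V}

theorem iter_pow (T : V ≃ₗ[F] V) (n : ℕ) (v : V) : (⇑T)^[n] v = (T ^ n) v := by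
  induction n generalizing v with
  | zero => rfl
  | succ n ih => rw [Function.iterate_succ_apply, ih, pow_succ]; rfl

theorem fix_of_coprime {T : V ≃ₗ[F] V} {m n : ℕ} (h : Nat.Coprime m n) {v : V} (hm : (T ^ m) v = v)
    (hn : (T ^ n) v = v) : T v = v := by
  have h1 : Function.IsPeriodicPt T m v := by
    show (⇑T)^[m] v = v
    rw [iter_pow, hm]
  have h2 : Function.IsPeriodicPt T n v := by
    show (⇑T)^[n] v = v
    rw [iter_pow, hn]
  have h3 := h1.gcd h2
  rw [h] at h3
  exact h3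

section fin

variable [Finite F] [FiniteDimensional F V]

/-- **Z1** fixed-point-free of prime order -/
theorem fpf_dvd (hF : Nat.card F = 2) {D : Submodule F V} {T : V ≃ₗ[F] V} (hTD : ∀ v ∈ D, T v ∈ D)
    (hf : ∀ v ∈ D, T v = v → v = 0) {r : ℕ} (hr : r.Prime) (hTr : T ^ r = 1) :
    r ∣ 2 ^ (Module.finrank F D) - 1 := by
  have := Fact.mk hr
  have hpow : ∀ (n : ℕ) (v : V), v ∈ D → (T ^ n) v ∈ D := by
    intro n
    induction n with
    | zero => intro v hv; exact hv
    | succ n ih => intro v hv; rw [pow_succ]; exact ih _ (hTD v hv)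
  have : Finite V := Module.finite_of_finite F
  -- the action of `ZMod r`
  let G := Subgroup.zpowers T
  let act : MulAction (Subgroup.zpowers T) D :=
    { smul := fun g v => ⟨(g : V ≃ₗ[F] V) v, by
        obtain ⟨g, hg⟩ := g
        obtain ⟨n, rfl⟩ : ∃ n : ℕ, T ^ n = g := by
          have hfin : IsOfFinOrder T := isOfFinOrder_iff_pow_eq_one.2 ⟨r, hr.pos, hTr⟩
          exact (IsOfFinOrder.mem_powers_iff_mem_zpowers hfin).2 hg
        exact hpow n v v.2⟩
      one_smul := fun v => rfl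
      mul_smul := fun g h v => rfl }
  have hG : IsPGroup r (Subgroup.zpowers T) := by
    intro g
    obtain ⟨g, n, hn⟩ := g
    refine ⟨1, Subtype.ext ?_⟩
    change g ^ r ^ 1 = 1
    have hn' : g = T ^ n := hn.symm
    rw [hn', pow_one, ← zpow_natCast, ← zpow_mul, mul_comm, zpow_mul, zpow_natCast, hTr, one_zpow]
  have h1 := hG.card_modEq_card_fixedPoints D
  have h2 : MulAction.fixedPoints (Subgroup.zpowers T) D = {0} := by
    ext v
    rw [Set.mem_singleton_iff, MulAction.mem_fixedPoints]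
    constructor
    · intro h
      have h3 := h ⟨T, Subgroup.mem_zpowers T⟩
      exact Subtype.ext (hf v v.2 (congrArg Subtype.val h3))
    · rintro rfl g
      exact Subtype.ext (map_zero (g : V ≃ₗ[F] V))
  have h3 : Nat.card D = 2 ^ finrank F D := by rw [Module.natCard_eq_pow_finrank (K := F), hF]
  have h4 : Nat.card ({0} : Set D) = 1 := by rw [Nat.card_coe_set_eq, Set.ncard_singleton]
  rw [h2, h3, h4] at h1
  exact (Nat.modEq_iff_dvd' Nat.one_le_two_pow).1 h1.symm

theorem even_fx (hF : Nat.card F = 2) : (2 : F) = 0 := by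
  have h := card_nsmul_eq_zero' (G := F) (x := (1 : F))
  rwa [hF, two_nsmul, one_add_one_eq_two] at h

theorem odd_ne (hF : Nat.card F = 2) {r : ℕ} (hr : r.Prime) (hr2 : r ≠ 2) : (r : F) ≠ 0 := by
  have h2 := even_fx (F := F) hF
  obtain ⟨m, hm⟩ := hr.eq_two_or_odd'.resolve_left hr2
  rw [hm]
  push_cast
  rw [h2, zero_mul, zero_add]
  exact one_ne_zero

/-- a nondegenerate plane over `F_2` is only moved by elements of order 3 -/
theorem plane_two (hF : Nat.card F = 2) {E : Submodule F V} (hE : NdOn Q E) (h2 : finrank F E = 2)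
    {S : V ≃ₗ[F] V} (hS : ∀ v, Q (S v) = Q v) (hSE : ∀ v ∈ E, S v ∈ E) {s : ℕ} (hs : s.Prime) (hs2 : s ≠ 2)
    (hs3 : s ≠ 3) (hSs : S ^ s = 1) : ∀ v ∈ E, S v = v := by
  have h20 := even_fx (F := F) hF
  have hs0 := odd_ne (F := F) hF hs hs2
  have hP : Pc Q (fun _ : Unit => S) E := ⟨hE, fun _ => hSE⟩
  have hf := (hP.fxp () (fun _ => hS) (fun _ _ _ => rfl) hs0 hSs).nd
  have hsum := finrank_fxp_cmp hs0 hSs hSE
  have he := NdOn.even h20 hf
  have hcases : finrank F (fxp S E) = 0 ∨ finrank F (fxp S E) = 2 := by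
    obtain ⟨k, hk⟩ := he
    omega
  rcases hcases with h0 | h0
  · exfalso
    have h1 : ∀ v ∈ E, S v = v → v = 0 := by
      intro v hv hv1
      have h3 : v ∈ fxp S E := ⟨hv, mem_fx.2 hv1⟩
      rw [Submodule.finrank_eq_zero.1 h0, Submodule.mem_bot] at h3
      exact h3
    have h3 := fpf_dvd hF hSE h1 hs hSs
    rw [h2] at h3
    exact hs3 ((Nat.prime_dvd_prime_iff_eq hs Nat.prime_three).1 h3)
  · intro v hv
    have h1 : fxp S E = E := Submodule.eq_of_le_of_finrank_eq inf_le_left (by rw [h0, h2])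
    rw [← h1] at hv
    exact mem_fx.1 hv.2

theorem no_four_aux (hF : Nat.card F = 2) {D : Submodule F V} (hD : NdOn Q D)
    (h4 : Module.finrank F D = 4) {T S : V ≃ₗ[F] V} (hT : ∀ v, Q (T v) = Q v) (hS : ∀ v, Q (S v) = Q v)
    (hc : T * S = S * T) (hTD : ∀ v ∈ D, T v ∈ D) (hSD : ∀ v ∈ D, S v ∈ D) {r s : ℕ} (hr : r.Prime) (hs : s.Prime)
    (hr2 : r ≠ 2) (hs2 : s ≠ 2) (hrs : r ≠ s) (hTr : T ^ r = 1) (hSs : S ^ s = 1) (hT1 : ∃ v ∈ D, T v ≠ v)
    (hS1 : ∃ v ∈ D, S v ≠ v) : ∀ v ∈ D, T v = v → v = 0 := by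
  intro v hv hv1
  by_contra hv0
  have h20 := even_fx (F := F) hF
  have hr0 := odd_ne (F := F) hF hr hr2
  let U : Bool → V ≃ₗ[F] V := fun b => cond b T S
  have hU : ∀ i v, Q (U i v) = Q v := by
    intro i
    cases i
    · exact hS
    · exact hT
  have hcv : ∀ v, T (S v) = S (T v) := fun v => LinearEquiv.congr_fun hc v
  have hUc : ∀ i j v, U i (U j v) = U j (U i v) := by
    intro i j v
    cases i <;> cases j
    · rfl
    · exact (hcv v).symm
    · exact hcv v
    · rfl
  have hP : Pc Q U D := ⟨hD, fun i => by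
    cases i
    · exact hSD
    · exact hTD⟩
  have hf := hP.fxp true hU hUc hr0 hTr
  have hm := hP.cmp true hU hUc hr0 hTr
  have hsum := finrank_fxp_cmp hr0 hTr hTD
  have hfe := NdOn.even h20 hf.nd
  have hme := NdOn.even h20 hm.nd
  change Even (finrank F (fxp T D)) at hfe
  change Even (finrank F (cmp T D)) at hme
  have hf0 : finrank F (fxp T D) ≠ 0 := by
    intro h0
    have h3 : v ∈ fxp T D := ⟨hv, mem_fx.2 hv1⟩
    rw [Submodule.finrank_eq_zero.1 h0, Submodule.mem_bot] at h3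
    exact hv0 h3
  have hm0 : finrank F (cmp T D) ≠ 0 := by
    intro h0
    obtain ⟨w, hw, hw1⟩ := hT1
    apply hw1
    have h1 : nn T w ∈ cmp T D := ⟨D.sub_mem (hTD w hw) hw, ⟨w, rfl⟩⟩
    rw [Submodule.finrank_eq_zero.1 h0, Submodule.mem_bot, nn_apply, sub_eq_zero] at h1
    exact h1
  obtain ⟨k, hk⟩ := hfe
  obtain ⟨l, hl⟩ := hme
  have hf2 : finrank F (fxp T D) = 2 := by omega
  have hm2 : finrank F (cmp T D) = 2 := by omega
  -- `T` has order 3
  have hr3 : r = 3 := by
    have h1 : ∀ x ∈ cmp T D, T x = x → x = 0 := by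
      intro x hx hx1
      have h3 : x ∈ fxp T D ⊓ cmp T D := ⟨⟨hx.1, mem_fx.2 hx1⟩, hx⟩
      rw [fxp_inf_cmp hr0 hTr, Submodule.mem_bot] at h3
      exact h3
    have h3 := fpf_dvd hF (fun x hx => hm.inv true x hx) h1 hr hTr
    change r ∣ 2 ^ finrank F (cmp T D) - 1 at h3
    rw [hm2] at h3
    exact (Nat.prime_dvd_prime_iff_eq hr Nat.prime_three).1 h3
  have hs3 : s ≠ 3 := fun h => hrs (hr3.trans h.symm)
  have ha := plane_two hF hf.nd hf2 hS (fun x hx => hf.inv false x hx) hs hs2 hs3 hSs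
  have hb := plane_two hF hm.nd hm2 hS (fun x hx => hm.inv false x hx) hs hs2 hs3 hSs
  obtain ⟨w, hw, hw1⟩ := hS1
  apply hw1
  rw [← fxp_sup_cmp hr0 hTr hTD] at hw
  obtain ⟨a, ha', b, hb', rfl⟩ := Submodule.mem_sup.1 hw
  rw [map_add, ha a ha', hb b hb']

/-- **Z3** no commuting isometries of different odd prime orders on a nondegenerate four-dimensional space over `F_2` -/
theorem no_four (hF : Nat.card F = 2) {D : Submodule F V} (hD : Nondeg (Q.comp D.subtype))
    (h4 : Module.finrank F D = 4) {T S : V ≃ₗ[F] V} (hT : T ∈ O Q) (hS : S ∈ O Q) (hc : T * S = S * T)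
    (hTD : ∀ v ∈ D, T v ∈ D) (hSD : ∀ v ∈ D, S v ∈ D) {r s : ℕ} (hr : r.Prime) (hs : s.Prime) (hr2 : r ≠ 2)
    (hs2 : s ≠ 2) (hrs : r ≠ s) (hTr : T ^ r = 1) (hSs : S ^ s = 1) (hT1 : ∃ v ∈ D, T v ≠ v)
    (hS1 : ∃ v ∈ D, S v ≠ v) : False := by
  have hDn : NdOn Q D := by
    intro x hx h
    exact congrArg Subtype.val (hD ⟨x, hx⟩ fun y => h y y.2)
  have hfT := no_four_aux hF hDn h4 hT hS hc hTD hSD hr hs hr2 hs2 hrs hTr hSs hT1 hS1
  have hfS := no_four_aux hF hDn h4 hS hT hc.symm hSD hTD hs hr hs2 hr2 hrs.symm hSs hTr hS1 hT1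
  have hr15 := fpf_dvd hF hTD hfT hr hTr
  have hs15 := fpf_dvd hF hSD hfS hs hSs
  rw [h4] at hr15 hs15
  have hcase : ∀ {p : ℕ}, p.Prime → p ∣ 2 ^ 4 - 1 → p = 3 ∨ p = 5 := by
    intro p hp h
    have h1 : p ∣ 3 * 5 := h
    rcases (Nat.Prime.dvd_mul hp).1 h1 with h2 | h2
    · exact Or.inl ((Nat.prime_dvd_prime_iff_eq hp Nat.prime_three).1 h2)
    · exact Or.inr ((Nat.prime_dvd_prime_iff_eq hp Nat.prime_five).1 h2)
  have hrc := hcase hr hr15
  have hsc := hcase hs hs15
  have hrs15 : r * s = 15 := by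
    rcases hrc with rfl | rfl <;> rcases hsc with rfl | rfl
    · exact absurd rfl hrs
    · rfl
    · rfl
    · exact absurd rfl hrs
  have hcop : Nat.Coprime r s := (Nat.coprime_primes hr hs).2 hrs
  have hcm : Commute T S := hc
  have hX15 : (T * S) ^ 15 = 1 := by
    rw [← hrs15, hcm.mul_pow, pow_mul, hTr, one_pow, one_mul, mul_comm r s, pow_mul, hSs, one_pow]
  -- the minimal period is 15
  have hmp : ∀ v ∈ D, v ≠ 0 → Function.minimalPeriod (T * S) v = 15 := by
    intro v hv hv0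
    have hd : Function.minimalPeriod (T * S) v ∣ r * s := by
      rw [hrs15]
      apply Function.IsPeriodicPt.minimalPeriod_dvd
      show (⇑(T * S))^[15] v = v
      rw [iter_pow, hX15]
      rfl
    have key : ∀ n, Function.minimalPeriod (T * S) v ∣ n → ((T * S) ^ n) v = v := by
      intro n hn
      rw [← iter_pow]
      exact Function.isPeriodicPt_iff_minimalPeriod_dvd.2 hn
    have hnr : ¬ Function.minimalPeriod (T * S) v ∣ r := by
      intro h
      have h1 := key r h
      rw [hcm.mul_pow, hTr, one_mul] at h1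
      exact hv0 (hfS v hv (fix_of_coprime hcop h1 (by rw [hSs]; rfl)))
    have hns : ¬ Function.minimalPeriod (T * S) v ∣ s := by
      intro h
      have h1 := key s h
      rw [hcm.mul_pow, hSs, mul_one] at h1
      exact hv0 (hfT v hv (fix_of_coprime hcop.symm h1 (by rw [hTr]; rfl)))
    rw [← hrs15]
    obtain ⟨a, b, ha, hb, hab⟩ := (Nat.dvd_mul).1 hd
    rw [Nat.dvd_prime hr] at ha
    rw [Nat.dvd_prime hs] at hb
    rcases ha with rfl | rfl
    · exfalso
      apply hns
      rw [← hab, one_mul]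
      rcases hb with rfl | rfl
      · exact one_dvd _
      · exact dvd_rfl
    · rcases hb with rfl | rfl
      · exfalso
        apply hnr
        rw [← hab, mul_one]
      · exact hab.symm
  have : Finite V := Module.finite_of_finite F
  have hcard : Nat.card D = 16 := by
    rw [Module.natCard_eq_pow_finrank (K := F), hF, h4]
    norm_num
  have hXD : ∀ (n : ℕ) (v : V), v ∈ D → ((T * S) ^ n) v ∈ D := by
    intro n
    induction n with
    | zero => intro v hv; exact hv
    | succ n ih => intro v hv; rw [pow_succ]; exact ih _ (hTD _ (hSD v hv))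
  have hXQ : ∀ (n : ℕ) (v : V), Q (((T * S) ^ n) v) = Q v := by
    intro n
    induction n with
    | zero => intro v; rfl
    | succ n ih =>
      intro v
      rw [pow_succ]
      change Q (((T * S) ^ n) (T (S v))) = Q v
      rw [ih, hT, hS]
  -- `Q` is constant on `D - 0`
  have hconst : ∀ v ∈ D, v ≠ 0 → ∀ w ∈ D, w ≠ 0 → Q w = Q v := by
    intro v hv hv0 w hw hw0
    let f : Fin 15 → {x : D // x ≠ 0} := fun n =>
      ⟨⟨((T * S) ^ (n : ℕ)) v, hXD n v hv⟩, fun h0 => hv0 (by
        have h1 : ((T * S) ^ (n : ℕ)) v = 0 := congrArg Subtype.val h0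
        exact (LinearEquiv.map_eq_zero_iff _).1 h1)⟩
    have hinj : Function.Injective f := by
      intro a b hab
      have h1 : ((T * S) ^ (a : ℕ)) v = ((T * S) ^ (b : ℕ)) v := congrArg (fun x : {x : D // x ≠ 0} => ((x : D) : V)) hab
      have h2 := Function.iterate_injOn_Iio_minimalPeriod (f := ⇑(T * S)) (x := v)
      rw [hmp v hv hv0] at h2
      have h3 : (⇑(T * S))^[(a : ℕ)] v = (⇑(T * S))^[(b : ℕ)] v := by
        rw [iter_pow, iter_pow, h1]
      exact Fin.ext (h2 (Set.mem_Iio.2 a.2) (Set.mem_Iio.2 b.2) h3)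
    have hc15 : Nat.card {x : D // x ≠ 0} = 15 := by
      classical
      have h1 := Nat.card_congr (Equiv.optionSubtypeNe (0 : D))
      rw [Finite.card_option, hcard] at h1
      omega
    have hsur : Function.Surjective f := by
      have h1 := (Nat.bijective_iff_injective_and_card f).2 ⟨hinj, by rw [hc15]; simp⟩
      exact h1.2
    obtain ⟨n, hn⟩ := hsur ⟨⟨w, hw⟩, fun h => hw0 (congrArg Subtype.val h)⟩
    have h1 : ((T * S) ^ (n : ℕ)) v = w := congrArg (fun x : {x : D // x ≠ 0} => ((x : D) : V)) hn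
    rw [← h1, hXQ]
  -- contradiction
  have h20 := even_fx (F := F) hF
  obtain ⟨v, hv, hv1⟩ := hT1
  have hv0 : v ≠ 0 := fun h => hv1 (by rw [h, map_zero])
  have hpol : ∀ w ∈ D, w ≠ 0 → w ≠ v → polar Q v w = Q v := by
    intro w hw hw0 hwv
    have h1 : v + w ≠ 0 := by
      intro h
      apply hwv
      have h2 : w = -v := (neg_eq_of_add_eq_zero_right h).symm
      have h3 : v + v = 0 := by rw [← two_smul F v, h20, zero_smul]
      rw [h2]
      exact neg_eq_of_add_eq_zero_right h3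
    show Q (v + w) - Q v - Q w = Q v
    rw [hconst v hv hv0 _ (D.add_mem hv hw) h1, hconst v hv hv0 w hw hw0]
    have h4 : Q v + Q v = 0 := by rw [← two_mul, h20, zero_mul]
    linear_combination (-1 : F) * h4
  have hTv := hpol (T v) (hTD v hv) (fun h => hv0 ((LinearEquiv.map_eq_zero_iff _).1 h)) hv1
  -- a third vector
  obtain ⟨w, hw, hwn⟩ : ∃ w ∈ D, w ∉ Submodule.span F {v, T v} := by
    by_contra hcon
    push Not at hcon
    have h1 : finrank F D ≤ 2 := by
      classical
      refine (Submodule.finrank_mono hcon).trans ?_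
      have h5 := finrank_span_finset_le_card (R := F) ({v, T v} : Finset V)
      rw [Finset.coe_pair] at h5
      exact h5.trans Finset.card_le_two
    omega
  have hw0 : w ≠ 0 := fun h => hwn (h ▸ Submodule.zero_mem _)
  have hwv : w ≠ v := fun h => hwn (h ▸ Submodule.subset_span (by simp))
  have hTw : T v + w ≠ 0 := by
    intro h
    apply hwn
    have : w = -T v := (neg_eq_of_add_eq_zero_right h).symm
    rw [this]
    exact Submodule.neg_mem _ (Submodule.subset_span (by simp))
  have hTwv : T v + w ≠ v := by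
    intro h
    apply hwn
    have : w = v - T v := eq_sub_of_add_eq' h
    rw [this]
    exact Submodule.sub_mem _ (Submodule.subset_span (by simp)) (Submodule.subset_span (by simp))
  have h1 := hpol w hw hw0 hwv
  have h2 := hpol (T v + w) (D.add_mem (hTD v hv) hw) hTw hTwv
  rw [polar_add_right, hTv, h1] at h2
  have hQv : Q v = 0 := by linear_combination h2
  have hall : ∀ x ∈ D, Q x = 0 := by
    intro x hx
    by_cases hx0 : x = 0
    · rw [hx0, map_zero]
    · rw [hconst v hv hv0 x hx hx0, hQv]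
  apply hv0
  apply hDn v hv
  intro y hy
  show Q (v + y) - Q v - Q y = 0
  rw [hall _ (D.add_mem hv hy), hall v hv, hall y hy]
  ring

end fin

end Cfsg.Agent.H138.RC
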